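import Groth.Prelude.Def_W4c1extbt15Mult
import Groth.Prelude.Def_CGrpSh
import Groth.Agent.SGA7.Ext
import Mathlib.CategoryTheory.Sites.EpiMono
import Mathlib.Algebra.Homology.ShortComplex.Exact
import Mathlib.Algebra.Category.Grp.Abelian
import Mathlib.Algebra.Category.Grp.Limits

set_option autoImplicit false

universe u w

open CategoryTheory CategoryTheory.Limits MonoidalCategory CartesianMonoidalCategory MonObj AlgebraicGeometry Opposite

namespace Groth.Misc5.Mult

variable {S : Scheme.{u}}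

abbrev Jf (S : Scheme.{u}) : GrothendieckTopology (Over S) := QuotSh.J Scheme.fppfPrecoverage S

/-- morphisms to a scheme agreeing on a covering sieve are equal -/
theorem eq_of_cover {T Z : Over S} {R : Sieve T} (hR : R ∈ Jf S T) {a b : T ⟶ Z}
    (h : ∀ ⦃V : Over S⦄ (g : V ⟶ T), R g → g ≫ a = g ≫ b) : a = b :=
  (GrothendieckTopology.Subcanonical.isSheaf_of_isRepresentable (yoneda.obj Z) R hR).isSeparatedFor.ext h

section

variable {M N : Over S} [GrpObj M] [IsCommMonObj M] [GrpObj N] [IsCommMonObj N]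

theorem exists_lift_cover (π : M ⟶ N) [IsMonHom π]
    (hπ : Epi (CGrpSh.ptsMap Scheme.fppfPrecoverage π)) {T : Over S} (x : T ⟶ N) :
    ∃ R : Sieve T, R ∈ Jf S T ∧ ∀ ⦃V : Over S⦄ (g : V ⟶ T), R g → ∃ y : V ⟶ M, y ≫ π = g ≫ x := by
  have := (Sheaf.isLocallySurjective_iff_epi' (φ := CGrpSh.ptsMap Scheme.fppfPrecoverage π)).2 hπ
  refine ⟨_, Presheaf.imageSieve_mem (Jf S) (CGrpSh.ptsMap Scheme.fppfPrecoverage π).hom
    (U := op T) (ULift.up (Additive.ofMul x)), ?_⟩
  rintro V g ⟨t, ht⟩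
  exact ⟨t.down.toMul, congrArg (fun z : ULift (Additive (V ⟶ N)) => z.down.toMul) ht⟩

theorem locSurj_of_epi (π : M ⟶ N) [IsMonHom π]
    (hπ : Epi (CGrpSh.ptsMap Scheme.fppfPrecoverage π)) : Groth.SGA7.Ext.LocSurj π := by
  obtain ⟨R, hR, hl⟩ := exists_lift_cover π hπ (𝟙 N)
  rw [GrothendieckTopology.mem_over_iff] at hR
  refine GrothendieckTopology.superset_covering _ ?_ hR
  rintro Y g hg
  rw [Sieve.overEquiv_iff] at hg
  obtain ⟨y, hy⟩ := hl _ hg
  exact ⟨y.left, by simpa using congrArg CommaMorphism.left hy⟩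

theorem exists_kernel_cover {L : Over S} [GrpObj L] [IsCommMonObj L] (j : L ⟶ M) (π : M ⟶ N)
    [IsMonHom j] [IsMonHom π] (w : j ≫ π = 1)
    (hex : (CGrpSh.seq Scheme.fppfPrecoverage j π w).Exact) {T : Over S} (x : T ⟶ M) (hx : x ≫ π = 1) :
    ∃ R : Sieve T, R ∈ Jf S T ∧ ∀ ⦃V : Over S⦄ (g : V ⟶ T), R g → ∃ y : V ⟶ L, y ≫ j = g ≫ x := by
  let C := CGrpSh.seq Scheme.fppfPrecoverage j π w
  let G := sheafToPresheaf (Jf S) AddCommGrpCat.{u+1} ⋙ (evaluation (Over S)ᵒᵖ AddCommGrpCat.{u+1}).obj (op T)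
  let s : G.obj C.X₂ := ULift.up (Additive.ofMul x)
  have hs : (G.map C.g) s = 0 := by
    apply ULift.ext
    change Additive.ofMul (x ≫ π) = 0
    rw [hx]
    rfl
  let s' : AddCommGrpCat.of (ULift.{u+1} ℤ) ⟶ G.obj C.X₂ :=
    AddCommGrpCat.ofHom (((zmultiplesHom (G.obj C.X₂)) s).comp AddEquiv.ulift.toAddMonoidHom)
  have hs' : s' ≫ G.map C.g = 0 := by
    ext y
    change (G.map C.g).hom (y.down • s) = 0
    rw [map_zsmul, hs, smul_zero]
  let k : G.obj (kernel C.g) :=
    (kernel.lift (G.map C.g) s' hs' ≫ (PreservesKernel.iso G C.g).inv) (ULift.up 1)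
  have hk : (G.map (kernel.ι C.g)) k = s := by
    have h1 : (kernel.lift (G.map C.g) s' hs' ≫ (PreservesKernel.iso G C.g).inv) ≫ G.map (kernel.ι C.g) = s' := by
      rw [Category.assoc, PreservesKernel.iso_inv_ι, kernel.lift_ι]
    refine (ConcreteCategory.congr_hom h1 (ULift.up 1)).trans ?_
    exact one_zsmul s
  have he := C.exact_iff_epi_kernel_lift.1 hex
  have := (Sheaf.isLocallySurjective_iff_epi' (φ := kernel.lift C.g C.f C.zero)).2 he
  refine ⟨_, Presheaf.imageSieve_mem (Jf S) (kernel.lift C.g C.f C.zero).hom (U := op T) k, ?_⟩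
  rintro V g ⟨t, ht⟩
  refine ⟨t.down.toMul, ?_⟩
  have h1 : (kernel.ι C.g).hom.app (op V) ((kernel.lift C.g C.f C.zero).hom.app (op V) t) =
      C.f.hom.app (op V) t := by
    change ((kernel.lift C.g C.f C.zero ≫ kernel.ι C.g).hom.app (op V)) t = _
    rw [kernel.lift_ι]
  rw [ht, NatTrans.naturality_apply] at h1
  have h2 := h1.symm.trans (congrArg (C.X₂.obj.map g.op) hk)
  exact congrArg (fun z : ULift (Additive (V ⟶ M)) => z.down.toMul) h2

end

section Tuple

variable {M N : Over S}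

/-- coordinates of a point of a power -/
noncomputable def coord {T : Over S} : {n : ℕ} → (T ⟶ MultSch.pow M n) → Fin n → (T ⟶ M)
  | 0, _ => Fin.elim0
  | n + 1, z => Fin.cons (z ≫ fst M (MultSch.pow M n)) (coord (z ≫ snd M (MultSch.pow M n)))

theorem tuple_coord {T : Over S} : {n : ℕ} → (z : T ⟶ MultSch.pow M n) → MultSch.tuple (coord z) = z
  | 0, z => toUnit_unique _ _
  | n + 1, z => by
    simp only [coord, MultSch.tuple, Fin.cons_zero, Fin.cons_succ, tuple_coord]
    refine CartesianMonoidalCategory.hom_ext _ _ ?_ ?_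
    · exact lift_fst _ _
    · exact lift_snd _ _

theorem comp_tuple {T V : Over S} (g : V ⟶ T) : {n : ℕ} → (x : Fin n → (T ⟶ M)) →
    g ≫ MultSch.tuple x = MultSch.tuple fun l => g ≫ x l
  | 0, _ => toUnit_unique _ _
  | n + 1, x => by
    exact (comp_lift g _ _).trans (congrArg (lift _) (comp_tuple g fun i => x i.succ))

theorem tuple_inj {T : Over S} : {n : ℕ} → {x y : Fin n → (T ⟶ M)} → MultSch.tuple x = MultSch.tuple y → x = y
  | 0, x, y, _ => funext fun i => i.elim0
  | n + 1, x, y, h => by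
    simp only [MultSch.tuple] at h
    have h0 := congrArg (· ≫ fst M (MultSch.pow M n)) h
    have h1 := congrArg (· ≫ snd M (MultSch.pow M n)) h
    simp only [lift_fst, lift_snd] at h0 h1
    have := congrFun (tuple_inj h1)
    exact funext fun i => Fin.cases h0 this i

/-- powers of a morphism -/
noncomputable def powMap (π : M ⟶ N) : (n : ℕ) → (MultSch.pow M n ⟶ MultSch.pow N n)
  | 0 => 𝟙 _
  | n + 1 => π ⊗ₘ powMap π n

theorem tuple_powMap {T : Over S} (π : M ⟶ N) : {n : ℕ} → (x : Fin n → (T ⟶ M)) →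
    MultSch.tuple x ≫ powMap π n = MultSch.tuple fun l => x l ≫ π
  | 0, _ => toUnit_unique _ _
  | n + 1, x => by
    exact (lift_map _ _ _ _).trans (congrArg (lift _) (tuple_powMap π fun i => x i.succ))

theorem locSurj_powMap (π : M ⟶ N) (h : Groth.SGA7.Ext.LocSurj π) :
    (n : ℕ) → Groth.SGA7.Ext.LocSurj (powMap π n)
  | 0 => Groth.SGA7.Ext.LocSurj.id _
  | n + 1 => h.tensor (locSurj_powMap π h n)

end Tuple

section

variable {M N H : Over S} [GrpObj M] [IsCommMonObj M] [GrpObj N] [IsCommMonObj N] [GrpObj H] [IsCommMonObj H]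

/-- simultaneous local lifts of a tuple -/
theorem exists_lifts_cover (π : M ⟶ N) [IsMonHom π]
    (hπ : Epi (CGrpSh.ptsMap Scheme.fppfPrecoverage π)) {T : Over S} {κ : Type*} [Fintype κ] (x : κ → (T ⟶ N)) :
    ∃ R : Sieve T, R ∈ Jf S T ∧ ∀ ⦃V : Over S⦄ (g : V ⟶ T), R g → ∃ y : κ → (V ⟶ M), ∀ l, y l ≫ π = g ≫ x l := by
  classical
  choose R hR hl using fun l => exists_lift_cover π hπ (x l)
  refine ⟨Finset.univ.inf R, ?_, fun V g hg => ?_⟩
  · refine Finset.inf_induction (p := fun Q : Sieve T => Q ∈ Jf S T) ((Jf S).top_mem T)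
      (fun a ha b hb => (Jf S).intersection_covering ha hb) fun l _ => hR l
  · choose y hy using fun l => hl l g ((Finset.inf_le (Finset.mem_univ l) : Finset.univ.inf R ≤ R l) g hg)
    exact ⟨y, hy⟩

theorem isAlternating_of_comp (π : M ⟶ N) [IsMonHom π]
    (hπ : Epi (CGrpSh.ptsMap Scheme.fppfPrecoverage π)) {r : ℕ} (φ : MultSch.pow N r ⟶ H)
    (halt : ∀ (T : Over S) (x : Fin r → (T ⟶ M)) (i j : Fin r), i ≠ j → x i = x j →
      MultSch.tuple (fun l => x l ≫ π) ≫ φ = 1) :
    MultSch.IsAlternating φ := by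
  intro T x i j hij hxij
  obtain ⟨R, hR, hl⟩ := exists_lifts_cover π hπ x
  refine eq_of_cover hR fun V g hg => ?_
  obtain ⟨y, hy⟩ := hl g hg
  rw [← Category.assoc, comp_tuple, MonObj.comp_one]
  have h1 : (fun l => Function.update y j (y i) l ≫ π) = fun l => g ≫ x l := by
    funext l
    by_cases h : l = j
    · subst h; simp [hy, hxij]
    · simp [h, hy]
  rw [← h1]
  exact halt V _ i j hij (by simp [hij])

end

section Quot

variable {R : Type w} [CommRing R] {M₁ M₂ M₃ N : Over S}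
    [GrpObj M₁] [IsCommMonObj M₁] [GrpObj M₂] [IsCommMonObj M₂] [GrpObj M₃] [IsCommMonObj M₃]
    [GrpObj N] [IsCommMonObj N]

theorem mult_one {n : ℕ} {φ : MultSch.pow M₂ n ⟶ N} (hmult : MultSch.IsMultilinear φ) {T : Over S}
    (x : Fin n → (T ⟶ M₂)) (i : Fin n) : MultSch.tuple (Function.update x i 1) ≫ φ = 1 := by
  have := hmult T x i 1 1
  simpa using this

/-- an alternating map vanishing on first coordinates in a subgroup vanishes on all coordinates there -/
theorem vanish_any {n : ℕ} (hn : 1 ≤ n) {φ : MultSch.pow M₂ n ⟶ N} (hmult : MultSch.IsMultilinear φ)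
    (halt : MultSch.IsAlternating φ) (j : M₁ ⟶ M₂)
    (hvan : ∀ (T : Over S) (y : T ⟶ M₁) (x : Fin n → (T ⟶ M₂)), x ⟨0, hn⟩ = y ≫ j →
      MultSch.tuple x ≫ φ = 1)
    {T : Over S} (x : Fin n → (T ⟶ M₂)) (l : Fin n) (y : T ⟶ M₁) (hx : x l = y ≫ j) :
    MultSch.tuple x ≫ φ = 1 := by
  by_cases hl : l = ⟨0, hn⟩
  · exact hvan T y x (hl ▸ hx)
  set z : Fin n := ⟨0, hn⟩
  let E : (T ⟶ M₂) → (T ⟶ M₂) → (T ⟶ N) := fun a b =>
    MultSch.tuple (Function.update (Function.update x z a) l b) ≫ φ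
  have addl : ∀ a a' b, E (a * a') b = E a b * E a' b := fun a a' b => by
    simp only [E, Function.update_comm (Ne.symm hl)]
    exact hmult T _ z a a'
  have addr : ∀ a b b', E a (b * b') = E a b * E a b' := fun a b b' => hmult T _ l b b'
  have diag : ∀ a, E a a = 1 := fun a => halt T _ z l (Ne.symm hl) (by simp [Ne.symm hl])
  have h0 : ∀ b, E (x l) b = 1 := fun b => hvan T y _ (by simp [Ne.symm hl, hx, z])
  have := diag (x l * x z)
  rw [addl, addr, addr, diag, diag, h0] at this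
  simpa [E] using this

theorem eq_of_congr {n : ℕ} (hn : 1 ≤ n) {φ : MultSch.pow M₂ n ⟶ N} (hmult : MultSch.IsMultilinear φ)
    (halt : MultSch.IsAlternating φ) (j : M₁ ⟶ M₂) (π : M₂ ⟶ M₃) [IsMonHom j] [IsMonHom π]
    (w : j ≫ π = 1) (hex : (CGrpSh.seq Scheme.fppfPrecoverage j π w).Exact)
    (hvan : ∀ (T : Over S) (y : T ⟶ M₁) (x : Fin n → (T ⟶ M₂)), x ⟨0, hn⟩ = y ≫ j →
      MultSch.tuple x ≫ φ = 1)
    {T : Over S} (x x' : Fin n → (T ⟶ M₂)) (h : ∀ l, x l ≫ π = x' l ≫ π) :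
    MultSch.tuple x ≫ φ = MultSch.tuple x' ≫ φ := by
  classical
  have step : ∀ s : Finset (Fin n), MultSch.tuple (s.piecewise x x') ≫ φ = MultSch.tuple x' ≫ φ := by
    intro s
    induction s using Finset.induction with
    | empty => simp
    | insert l s hl ih =>
      rw [Finset.piecewise_insert]
      have hd : (x l * (x' l)⁻¹) ≫ π = 1 := by
        rw [MonObj.mul_comp, GrpObj.inv_comp, h l, mul_inv_cancel]
      obtain ⟨R, hR, hk⟩ := exists_kernel_cover j π w hex _ hd
      have hz : MultSch.tuple (Function.update (s.piecewise x x') l (x l * (x' l)⁻¹)) ≫ φ = 1 := by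
        refine eq_of_cover hR fun V g hg => ?_
        obtain ⟨y, hy⟩ := hk g hg
        rw [← Category.assoc, comp_tuple, MonObj.comp_one]
        exact vanish_any hn hmult halt j hvan _ l y (by simp [hy])
      calc _ = MultSch.tuple (Function.update (s.piecewise x x') l (x l * (x' l)⁻¹ * x' l)) ≫ φ := by
            rw [inv_mul_cancel_right]
        _ = MultSch.tuple (Function.update (s.piecewise x x') l (x' l)) ≫ φ := by
            rw [hmult, hz, _root_.one_mul]
        _ = _ := by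
            rw [← Finset.piecewise_eq_of_notMem s x x' hl, Function.update_eq_self, ih]
  simpa using step Finset.univ

end Quot

end Groth.Misc5.Mult
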