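import Groth.Agent.HTopHyper.Seminormal
import Mathlib.Algebra.Polynomial.Expand
import Mathlib.Algebra.Polynomial.Coeff
import Mathlib.FieldTheory.Minpoly.Field
import Mathlib.FieldTheory.PurelyInseparable.Basic

set_option autoImplicit false

universe u

namespace Groth.Misc5SemTS

open Polynomial

variable {F E : Type u} [Field F] [Field E] [Algebra F E]

theorem pow_finrank_mem [IsPurelyInseparable F E] [FiniteDimensional F E] (x : E) :
    x ^ Module.finrank F E ∈ (algebraMap F E).range := by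
  obtain ⟨k, y, hk⟩ := IsPurelyInseparable.minpoly_eq_X_pow_sub_C F (ringExpChar F) x
  have hdvd : (minpoly F x).natDegree ∣ Module.finrank F E := minpoly.degree_dvd (Algebra.IsIntegral.isIntegral x)
  rw [hk, natDegree_sub_C, natDegree_X_pow] at hdvd
  obtain ⟨c, hc⟩ := hdvd
  rw [hc, pow_mul]
  refine pow_mem (RingHom.mem_range.2 ⟨y, ?_⟩) _
  have h := minpoly.aeval F x
  rw [hk, map_sub, map_pow, aeval_X, aeval_C, sub_eq_zero] at h
  exact h.symm

theorem choose_cast_eq_zero {ℓ : ℕ} (hℓ : ℓ.Prime) (h0 : (ℓ : F) = 0) (e : ℕ) {d j : ℕ} (hd : ℓ ^ e ∣ d)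
    (hj : ¬ ℓ ^ e ∣ j) : (d.choose j : F) = 0 := by
  have : Fact ℓ.Prime := ⟨hℓ⟩
  have : CharP F ℓ := (CharP.charP_iff_prime_eq_zero hℓ).mpr h0
  obtain ⟨m, rfl⟩ := hd
  have h : ((X : F[X]) + 1) ^ (ℓ ^ e * m) = expand F (ℓ ^ e) ((X + 1) ^ m) := by
    rw [pow_mul, add_pow_char_pow, one_pow, map_pow, map_add, expand_X, map_one]
  rw [← coeff_X_add_one_pow F, h, coeff_expand (pow_pos hℓ.pos e), if_neg hj]

theorem choose_mul_pow_mem [IsPurelyInseparable F E] [FiniteDimensional F E] {d : ℕ}
    (hd : Module.finrank F E ∣ d) (j : ℕ) (x : E) :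
    (d.choose j : E) * x ^ j ∈ (algebraMap F E).range := by
  by_cases hj : Module.finrank F E ∣ j
  · obtain ⟨c, rfl⟩ := hj
    rw [pow_mul]
    exact mul_mem (natCast_mem _ _) (pow_mem (pow_finrank_mem x) _)
  · obtain ⟨e, he⟩ := IsPurelyInseparable.finrank_eq_pow F E (ringExpChar F)
    rcases Groth.HTopHyper.expChar_cases F (ringExpChar F) with h1 | ⟨hp, h0⟩
    · rw [he, h1, one_pow] at hj
      exact absurd (one_dvd j) hj
    · rw [he] at hd hj
      rw [← map_natCast (algebraMap F E), choose_cast_eq_zero hp h0 e hd hj, map_zero, zero_mul]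
      exact zero_mem _

end Groth.Misc5SemTS

namespace Groth.Misc5SemTS

open Groth.HTopHyper

/-- an element of a reduced universally homeomorphic extension of a seminormal ring whose image in each residue
field is rational lies in the ring -/
theorem mem_range_of_residually {C C' : Type u} [CommRing C] [CommRing C'] [IsReduced C'] (g : C →+* C')
    (hC : HTop.IsSeminormalRing C)
    (h : FlatMor.IsUnivHomeo (AlgebraicGeometry.Spec.map (CommRingCat.ofHom g))) (z : C')
    (hz : ∀ (Q : Ideal C') [Q.IsPrime], algebraMap C' Q.ResidueField z ∈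
      (Ideal.ResidueField.map (Q.comap g) Q g rfl).range) : z ∈ g.range := by
  obtain ⟨hint, hker, hUI⟩ := (specUnivHomeo_iff g).mp h
  letI := g.toAlgebra
  have : Algebra.IsIntegral C C' := ⟨hint⟩
  let S := Algebra.adjoin C ({z} : Set C')
  have hSint : S.val.toRingHom.IsIntegral := fun x => by
    obtain ⟨r, hr, hr'⟩ := hint x
    exact ⟨r.map (algebraMap C S), hr.map _, by rwa [Polynomial.eval₂_map]⟩
  have : IsReduced S := isReduced_of_injective S.val Subtype.val_injective
  have hfin : (algebraMap C S).Finite := RingHom.finite_algebraMap.mpr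
    (Module.Finite.iff_fg.mpr (Algebra.IsIntegral.isIntegral z).fg_adjoin_singleton)
  have hS : FlatMor.IsUnivHomeo (AlgebraicGeometry.Spec.map (CommRingCat.ofHom (algebraMap C S))) := by
    refine (specUnivHomeo_iff _).mpr ⟨hfin.to_isIntegral, ?_, ?_⟩
    · intro a ha
      refine hker ?_
      have := congrArg S.val (RingHom.mem_ker.1 ha)
      simpa [RingHom.algebraMap_toAlgebra] using this
    · exact PointsInj.of_comp (ψ := S.val.toRingHom) hUI hSint
        (by rw [(RingHom.injective_iff_ker_eq_bot _).mp Subtype.val_injective]; exact bot_le)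
  have hres : ResSurj (algebraMap C S) := by
    intro q hq c
    letI := S.val.toRingHom.toAlgebra
    have : Algebra.IsIntegral S C' := ⟨hSint⟩
    obtain ⟨Q, -, hQ, hQq⟩ := Ideal.exists_ideal_over_prime_of_isIntegral q (⊥ : Ideal C') (by
      rw [← RingHom.ker_eq_comap_bot,
        (RingHom.injective_iff_ker_eq_bot _).mp (show Function.Injective (algebraMap S C') from
          Subtype.val_injective)]
      exact bot_le)
    let F' : Subalgebra C C' :=
      { carrier := {c | ∃ a s : C, g s ∉ Q ∧ g s * c - g a ∈ Q}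
        mul_mem' := by
          rintro c₁ c₂ ⟨a₁, s₁, h₁, m₁⟩ ⟨a₂, s₂, h₂, m₂⟩
          refine ⟨a₁ * a₂, s₁ * s₂, ?_, ?_⟩
          · rw [map_mul]; exact hQ.mul_notMem h₁ h₂
          · rw [map_mul, map_mul,
              show g s₁ * g s₂ * (c₁ * c₂) - g a₁ * g a₂ =
                (g s₁ * c₁ - g a₁) * (g s₂ * c₂) + g a₁ * (g s₂ * c₂ - g a₂) by ring]
            exact add_mem (Q.mul_mem_right _ m₁) (Q.mul_mem_left _ m₂)
        add_mem' := by
          rintro c₁ c₂ ⟨a₁, s₁, h₁, m₁⟩ ⟨a₂, s₂, h₂, m₂⟩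
          refine ⟨s₂ * a₁ + s₁ * a₂, s₁ * s₂, ?_, ?_⟩
          · rw [map_mul]; exact hQ.mul_notMem h₁ h₂
          · rw [map_mul, map_add, map_mul, map_mul,
              show g s₁ * g s₂ * (c₁ + c₂) - (g s₂ * g a₁ + g s₁ * g a₂) =
                g s₂ * (g s₁ * c₁ - g a₁) + g s₁ * (g s₂ * c₂ - g a₂) by ring]
            exact add_mem (Q.mul_mem_left _ m₁) (Q.mul_mem_left _ m₂)
        algebraMap_mem' := fun a => ⟨a, 1, by simpa using Q.ne_top_iff_one.1 hQ.ne_top,
          by simp [RingHom.algebraMap_toAlgebra]⟩ }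
    have hzF : z ∈ F' := by
      obtain ⟨w, hw⟩ := hz Q
      obtain ⟨⟨a, s, hs⟩, hw'⟩ := IsLocalization.surj (nonZeroDivisors (C ⧸ Q.comap g)) w
      obtain ⟨a, rfl⟩ := Ideal.Quotient.mk_surjective a
      obtain ⟨s, rfl⟩ := Ideal.Quotient.mk_surjective s
      refine ⟨a, s, fun hsq => nonZeroDivisors.ne_zero hs (Ideal.Quotient.eq_zero_iff_mem.mpr hsq), ?_⟩
      rw [← Ideal.algebraMap_residueField_eq_zero, map_sub, map_mul, sub_eq_zero, ← hw]
      have e := congrArg (Ideal.ResidueField.map (Q.comap g) Q g rfl) hw'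
      rw [map_mul, Ideal.algebraMap_quotient_residueField_mk, Ideal.algebraMap_quotient_residueField_mk,
        Ideal.ResidueField.map_algebraMap, Ideal.ResidueField.map_algebraMap] at e
      rw [mul_comm]
      exact e
    obtain ⟨a, s, h1, h2⟩ := (Algebra.adjoin_le (Set.singleton_subset_iff.2 hzF) : S ≤ F') c.2
    exact ⟨a, s, fun h => h1 (show algebraMap C S s ∈ Q.comap (algebraMap S C') from hQq ▸ h),
      hQq ▸ (show algebraMap C S s * c - algebraMap C S a ∈ Q.comap (algebraMap S C') from h2)⟩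
  obtain ⟨a, ha⟩ := (surjective_of_univHomeo (algebraMap C S) hC hS (Or.inr hres)).2
    ⟨z, Algebra.subset_adjoin rfl⟩
  exact ⟨a, congrArg Subtype.val ha⟩

theorem residually_choose_mul_pow {C C' : Type u} [CommRing C] [CommRing C'] (g : C →+* C')
    (h : FlatMor.IsUnivHomeo (AlgebraicGeometry.Spec.map (CommRingCat.ofHom g))) (Q : Ideal C') [Q.IsPrime]
    {d : ℕ} (hd : 0 < d)
    (hdeg : @Module.finrank (Q.comap g).ResidueField Q.ResidueField _ _
      (Ideal.ResidueField.map (Q.comap g) Q g rfl).toAlgebra.toModule ∣ d) (j : ℕ) (y : C') :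
    algebraMap C' Q.ResidueField ((d.choose j : C') * y ^ j) ∈ (Ideal.ResidueField.map (Q.comap g) Q g rfl).range := by
  obtain ⟨-, -, hUI⟩ := (specUnivHomeo_iff g).mp h
  let ι := Ideal.ResidueField.map (Q.comap g) Q g rfl
  letI := ι.toAlgebra
  have : IsPurelyInseparable (Q.comap g).ResidueField Q.ResidueField := by
    rw [isPurelyInseparable_iff_subsingleton_emb]
    refine ⟨fun σ₁ σ₂ => AlgHom.coe_ringHom_injective (Ideal.ResidueField.ringHom_ext ?_)⟩
    refine hUI _ _ _ (RingHom.ext fun a => ?_)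
    have e : algebraMap C' Q.ResidueField (g a) =
        algebraMap (Q.comap g).ResidueField Q.ResidueField (algebraMap C (Q.comap g).ResidueField a) :=
      (Ideal.ResidueField.map_algebraMap (Q.comap g) Q g rfl a).symm
    change σ₁ (algebraMap C' Q.ResidueField (g a)) = σ₂ (algebraMap C' Q.ResidueField (g a))
    rw [e, σ₁.commutes, σ₂.commutes]
  have : FiniteDimensional (Q.comap g).ResidueField Q.ResidueField :=
    Module.finite_of_finrank_pos (Nat.pos_of_ne_zero fun h0 => hd.ne' (by simpa [h0] using hdeg))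
  rw [map_mul, map_natCast, map_pow]
  exact choose_mul_pow_mem hdeg j _

end Groth.Misc5SemTS
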