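import Mathlib.RingTheory.Jacobson.Radical
import Mathlib.RingTheory.SimpleRing.Basic
import Mathlib.RingTheory.SimpleModule.Isotypic
import Mathlib.RingTheory.SimpleModule.WedderburnArtin
import Mathlib.RingTheory.Artinian.Module
import Mathlib.RingTheory.Length
import Mathlib.Algebra.Module.Projective
import Mathlib.LinearAlgebra.Quotient.Basic
import Mathlib.RingTheory.Ideal.Quotient.Basic
import Mathlib.Algebra.Module.Torsion.Basic
import Mathlib.Algebra.Module.BigOperators

set_option autoImplicit false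
universe u v

open scoped Pointwise

namespace Groth.Misc5.StrongLocal

variable {A : Type u} [Ring A] {P Q R : Type v} [AddCommGroup P] [Module A P] [AddCommGroup Q] [Module A Q]
  [AddCommGroup R] [Module A R]

abbrev JP (A : Type u) [Ring A] (P : Type v) [AddCommGroup P] [Module A P] : Submodule A P :=
  Ring.jacobson A • (⊤ : Submodule A P)

abbrev Bar (A : Type u) [Ring A] (P : Type v) [AddCommGroup P] [Module A P] : Type v := P ⧸ JP A P

/-- reduction of a linear map modulo the radical -/
def bar (f : P →ₗ[A] Q) : Bar A P →ₗ[A ⧸ Ring.jacobson A] Bar A Q where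
  toFun := Submodule.mapQ (JP A P) (JP A Q) f (by
    rw [← Submodule.map_le_iff_le_comap, Submodule.map_smul'']
    exact smul_mono_right _ le_top)
  map_add' := map_add _
  map_smul' c x := by
    obtain ⟨a, rfl⟩ := Ideal.Quotient.mk_surjective c
    exact map_smul _ a x

@[simp] theorem bar_mk (f : P →ₗ[A] Q) (x : P) :
    bar f (Submodule.Quotient.mk x) = Submodule.Quotient.mk (f x) := rfl

theorem bar_id : bar (LinearMap.id : P →ₗ[A] P) = LinearMap.id := by
  refine LinearMap.ext fun x => ?_
  obtain ⟨x, rfl⟩ := Submodule.Quotient.mk_surjective _ x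
  rfl

theorem bar_comp (g : Q →ₗ[A] R) (f : P →ₗ[A] Q) : bar (g ∘ₗ f) = bar g ∘ₗ bar f := by
  refine LinearMap.ext fun x => ?_
  obtain ⟨x, rfl⟩ := Submodule.Quotient.mk_surjective _ x
  rfl

theorem bar_surjective [Module.Projective A P] (g : Bar A P →ₗ[A ⧸ Ring.jacobson A] Bar A Q) :
    ∃ f : P →ₗ[A] Q, bar f = g := by
  obtain ⟨f, hf⟩ := Module.projective_lifting_property (JP A Q).mkQ
    ((g.restrictScalars A) ∘ₗ (JP A P).mkQ) (Submodule.mkQ_surjective _)
  refine ⟨f, LinearMap.ext fun x => ?_⟩
  obtain ⟨x, rfl⟩ := Submodule.Quotient.mk_surjective _ x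
  exact LinearMap.congr_fun hf x

/-- Nakayama -/
theorem surjective_of_bar [Module.Finite A Q] (f : P →ₗ[A] Q) (h : Function.Surjective (bar f)) :
    Function.Surjective f := by
  rw [← LinearMap.range_eq_top]
  by_contra hne
  have : Nontrivial (Q ⧸ LinearMap.range f) := Submodule.Quotient.nontrivial_iff.2 hne
  have hlt := Submodule.jacobson_smul_lt_top (R := A) (⊤ : Submodule A (Q ⧸ LinearMap.range f))
  refine hlt.ne (eq_top_iff.2 fun y _ => ?_)
  obtain ⟨y, rfl⟩ := Submodule.Quotient.mk_surjective _ y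
  obtain ⟨x, hx⟩ := h (Submodule.Quotient.mk y)
  obtain ⟨x, rfl⟩ := Submodule.Quotient.mk_surjective _ x
  rw [bar_mk, Submodule.Quotient.eq] at hx
  have : (LinearMap.range f).mkQ (f x - y) ∈ Submodule.map (LinearMap.range f).mkQ (JP A Q) :=
    Submodule.mem_map_of_mem hx
  rw [Submodule.map_smul'', Submodule.map_top, Submodule.range_mkQ, map_sub,
    Submodule.mkQ_apply, (Submodule.Quotient.mk_eq_zero _).2 (LinearMap.mem_range_self f x),
    zero_sub, neg_mem_iff] at this
  exact this

theorem bijective_of_bar [Module.Finite A P] [Module.Finite A Q] [Module.Projective A Q]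
    (f : P →ₗ[A] Q) (h : Function.Bijective (bar f)) : Function.Bijective f := by
  have hs := surjective_of_bar f h.2
  obtain ⟨s, hs'⟩ := Module.projective_lifting_property f LinearMap.id hs
  have hb : bar f ∘ₗ bar s = LinearMap.id := by rw [← bar_comp, hs', bar_id]
  have hsurj : Function.Surjective s := surjective_of_bar s fun x =>
    ⟨bar f x, h.1 (LinearMap.congr_fun hb (bar f x))⟩
  refine ⟨fun x y hxy => ?_, hs⟩
  obtain ⟨x, rfl⟩ := hsurj x
  obtain ⟨y, rfl⟩ := hsurj y
  have hx := LinearMap.congr_fun hs' x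
  have hy := LinearMap.congr_fun hs' y
  simp only [LinearMap.comp_apply, LinearMap.id_apply] at hx hy
  rw [← hx, ← hy, hxy]

variable (A P) in
/-- reduction as a ring map on endomorphisms -/
def barHom : Module.End A P →+* Module.End (A ⧸ Ring.jacobson A) (Bar A P) where
  toFun := bar
  map_one' := bar_id
  map_mul' := bar_comp
  map_zero' := by
    refine LinearMap.ext fun x => ?_
    obtain ⟨x, rfl⟩ := Submodule.Quotient.mk_surjective _ x
    rfl
  map_add' f g := by
    refine LinearMap.ext fun x => ?_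
    obtain ⟨x, rfl⟩ := Submodule.Quotient.mk_surjective _ x
    rfl

theorem barHom_surjective [Module.Projective A P] : Function.Surjective (barHom A P) :=
  fun g => bar_surjective g

variable [IsSimpleRing (A ⧸ Ring.jacobson A)] [IsArtinianRing (A ⧸ Ring.jacobson A)]

theorem mem_ker_barHom_iff [Module.Finite A P] [Module.Projective A P] (f : Module.End A P) :
    barHom A P f = 0 ↔ ∀ g : Module.End A P, IsUnit (1 + g * f) := by
  constructor
  · intro hf g
    rw [Module.End.isUnit_iff]
    refine bijective_of_bar _ ?_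
    have : bar (1 + g * f) = (1 : Module.End (A ⧸ Ring.jacobson A) (Bar A P)) := by
      change barHom A P (1 + g * f) = 1
      rw [map_add, map_mul, hf, mul_zero, add_zero, map_one]
    rw [this]
    exact Function.bijective_id
  · intro h
    by_contra hne
    obtain ⟨S, hS, hx⟩ : ∃ (S : Submodule (A ⧸ Ring.jacobson A) (Bar A P)),
        IsSimpleModule (A ⧸ Ring.jacobson A) S ∧ ¬ S ≤ LinearMap.ker (barHom A P f) := by
      by_contra h'
      push Not at h'
      apply hne
      rw [← LinearMap.ker_eq_top, eq_top_iff, ← IsSemisimpleModule.sSup_simples_eq_top]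
      exact sSup_le fun S hS => h' S hS
    have := hS
    have hinj : Function.Injective ((barHom A P f).domRestrict S) := by
      refine (LinearMap.injective_or_eq_zero _).resolve_right fun h0 => hx fun y hy => ?_
      simpa using LinearMap.congr_fun h0 ⟨y, hy⟩
    obtain ⟨T, hT⟩ : ∃ T : Bar A P →ₗ[A ⧸ Ring.jacobson A] S,
        T ∘ₗ ((barHom A P f).domRestrict S) = LinearMap.id :=
      IsSemisimpleModule.extension_property _ hinj LinearMap.id
    obtain ⟨g, hg⟩ := barHom_surjective (A := A) (P := P) (-(S.subtype ∘ₗ T))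
    obtain ⟨u, hu⟩ := (h g).map (barHom A P)
    have hb := (Module.End.isUnit_iff _).1 ⟨u, hu⟩
    obtain ⟨y, hy, hy'⟩ := S.exists_mem_ne_zero_of_ne_bot (by
      intro hbot; exact hx (hbot ▸ bot_le))
    refine hy' (hb.1 ?_)
    have h2 := congrArg Subtype.val (LinearMap.congr_fun hT ⟨y, hy⟩)
    simp only [LinearMap.comp_apply, LinearMap.id_apply, LinearMap.domRestrict_apply] at h2
    simp [map_add, map_mul, hg, h2]

omit [IsArtinianRing (A ⧸ Ring.jacobson A)] in
theorem exists_simple [IsArtinianRing (A ⧸ Ring.jacobson A)] :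
    ∃ (S : Ideal (A ⧸ Ring.jacobson A)), IsSimpleModule (A ⧸ Ring.jacobson A) S ∧
      ∀ (M : Type v) [AddCommGroup M] [Module (A ⧸ Ring.jacobson A) M]
        [Module.Finite (A ⧸ Ring.jacobson A) M], ∃ n : ℕ, Nonempty (M ≃ₗ[A ⧸ Ring.jacobson A] (Fin n → S)) := by
  obtain ⟨n, hn, S, hS, -⟩ :=
    (IsSimpleRing.isIsotypic (A ⧸ Ring.jacobson A) (A ⧸ Ring.jacobson A)).linearEquiv_fun
  refine ⟨S, hS, fun M _ _ _ => ?_⟩
  have : IsIsotypicOfType (A ⧸ Ring.jacobson A) M S := fun m _ => by
    obtain ⟨I, ⟨e⟩⟩ := IsSemisimpleRing.exists_linearEquiv_ideal_of_isSimpleModule (A ⧸ Ring.jacobson A) m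
    have := IsSimpleModule.congr e.symm
    have := hS
    exact ⟨e.trans ((IsSimpleRing.isIsotypic (A ⧸ Ring.jacobson A) (A ⧸ Ring.jacobson A)) S I).some⟩
  exact this.linearEquiv_fun

omit [IsSimpleRing (A ⧸ Ring.jacobson A)] [IsArtinianRing (A ⧸ Ring.jacobson A)] in
/-- counting orthogonal idempotents -/
theorem le_of_ringEquiv {S : Type*} [Ring S] {U : Type*} [AddCommGroup U] [Module S U]
    [IsSimpleModule S U] {p q : ℕ}
    (φ : Module.End S (Fin p → U) →+* Module.End S (Fin q → U)) (hφ : Function.Injective φ) : p ≤ q := by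
  let e : Fin p → Module.End S (Fin p → U) := fun i => LinearMap.single S _ i ∘ₗ LinearMap.proj i
  have horth : ∀ i j, e i * e j = if i = j then e i else 0 := by
    intro i j
    refine LinearMap.ext fun x => funext fun l => ?_
    by_cases h : i = j
    · subst h; simp [e]
    · simp [e, h, Pi.single_eq_of_ne h]
  have : ∀ i, Nontrivial (LinearMap.range (φ (e i))) := by
    intro i
    rw [Submodule.nontrivial_iff_ne_bot]
    intro h0
    rw [LinearMap.range_eq_bot, ← map_zero φ] at h0
    have := IsSimpleModule.nontrivial S U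
    obtain ⟨x, hx⟩ := exists_ne (0 : U)
    exact hx (by simpa [e] using congr_fun (LinearMap.congr_fun (hφ h0) (fun _ => x)) i)
  let s : ((i : Fin p) → LinearMap.range (φ (e i))) →ₗ[S] (Fin q → U) :=
    LinearMap.lsum S _ ℕ fun i => (LinearMap.range (φ (e i))).subtype
  have hs : Function.Injective s := by
    rw [← LinearMap.ker_eq_bot, LinearMap.ker_eq_bot']
    intro x hx
    funext i
    apply Subtype.ext
    have := congrArg (φ (e i)) hx
    simp only [s, LinearMap.lsum_apply, LinearMap.coe_sum, LinearMap.coe_comp, Function.comp_apply,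
      LinearMap.coe_proj, Finset.sum_apply, Function.eval, Submodule.coe_subtype, map_sum, map_zero] at this
    rw [Finset.sum_eq_single i] at this
    · obtain ⟨y, hy⟩ := (x i).2
      rw [← hy, ← Module.End.mul_apply, ← map_mul, horth, if_pos rfl, hy] at this
      simpa using this
    · intro j _ hj
      obtain ⟨y, hy⟩ := (x j).2
      rw [← hy, ← Module.End.mul_apply, ← map_mul, horth, if_neg (Ne.symm hj), map_zero]
      rfl
    · simp
  have h1 := Module.length_le_of_injective s hs
  rw [Module.length_pi_of_fintype, Module.length_pi_of_fintype] at h1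
  have h2 : (p : ℕ∞) ≤ ∑ i : Fin p, Module.length S (LinearMap.range (φ (e i))) := by
    have hpos : ∀ i, (1 : ℕ∞) ≤ Module.length S (LinearMap.range (φ (e i))) := fun i => by
      rw [ENat.one_le_iff_ne_zero, Ne, Module.length_eq_zero_iff]
      exact not_subsingleton _
    simpa using Finset.sum_le_sum (s := Finset.univ) fun i _ => hpos i
  simpa [Module.length_eq_one] using h2.trans h1

/-- the ring of endomorphisms determines a finitely generated projective module -/
theorem nonempty_linearEquiv [Module.Finite A P] [Module.Projective A P] [Module.Finite A Q]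
    [Module.Projective A Q] (e : Module.End A P ≃+* Module.End A Q) : Nonempty (P ≃ₗ[A] Q) := by
  let πP := barHom A P
  let πQ := barHom A Q
  have hker : ∀ f, πP f = 0 ↔ πQ (e f) = 0 := by
    intro f
    simp only [πP, πQ, mem_ker_barHom_iff]
    refine ⟨fun h g => ?_, fun h g => ?_⟩
    · simpa [map_add, map_mul] using (h (e.symm g)).map e
    · simpa [map_add, map_mul] using (h (e g)).map e.symm
  let φ : Module.End (A ⧸ Ring.jacobson A) (Bar A P) →+* Module.End (A ⧸ Ring.jacobson A) (Bar A Q) :=
    RingHom.liftOfSurjective πP barHom_surjective ⟨πQ.comp e.toRingHom, fun f hf => by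
      simp only [RingHom.mem_ker] at hf ⊢
      exact (hker f).1 hf⟩
  let ψ : Module.End (A ⧸ Ring.jacobson A) (Bar A Q) →+* Module.End (A ⧸ Ring.jacobson A) (Bar A P) :=
    RingHom.liftOfSurjective πQ barHom_surjective ⟨πP.comp e.symm.toRingHom, fun f hf => by
      simp only [RingHom.mem_ker] at hf ⊢
      exact (hker (e.symm f)).2 (by simpa using hf)⟩
  have hinj : Function.Injective φ := by
    rw [injective_iff_map_eq_zero]
    intro g hg
    obtain ⟨f, rfl⟩ := barHom_surjective (A := A) (P := P) g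
    simp only [φ, πP, RingHom.liftOfSurjective_comp_apply, RingHom.coe_comp, Function.comp_apply, RingEquiv.toRingHom_eq_coe, RingEquiv.coe_toRingHom] at hg
    exact (hker f).2 hg
  have hinj' : Function.Injective ψ := by
    rw [injective_iff_map_eq_zero]
    intro g hg
    obtain ⟨f, rfl⟩ := barHom_surjective (A := A) (P := Q) g
    simp only [ψ, πQ, RingHom.liftOfSurjective_comp_apply, RingHom.coe_comp, Function.comp_apply, RingEquiv.toRingHom_eq_coe, RingEquiv.coe_toRingHom] at hg
    simpa using (hker (e.symm f)).1 hg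
  obtain ⟨S, hS, hM⟩ := exists_simple (A := A)
  have := hS
  have : Module.Finite (A ⧸ Ring.jacobson A) (Bar A P) := Module.Finite.of_restrictScalars_finite A _ _
  have : Module.Finite (A ⧸ Ring.jacobson A) (Bar A Q) := Module.Finite.of_restrictScalars_finite A _ _
  obtain ⟨p, ⟨eP⟩⟩ := hM (Bar A P)
  obtain ⟨q, ⟨eQ⟩⟩ := hM (Bar A Q)
  have hpq : p ≤ q := le_of_ringEquiv
    (((eQ.conjRingEquiv).toRingHom.comp φ).comp eP.conjRingEquiv.symm.toRingHom)
    (by simpa using hinj)
  have hqp : q ≤ p := le_of_ringEquiv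
    (((eP.conjRingEquiv).toRingHom.comp ψ).comp eQ.conjRingEquiv.symm.toRingHom)
    (by simpa using hinj')
  obtain rfl : p = q := le_antisymm hpq hqp
  obtain ⟨g, hg⟩ := bar_surjective (A := A) (eP.trans eQ.symm).toLinearMap
  exact ⟨LinearEquiv.ofBijective g (bijective_of_bar g (by rw [hg]; exact (eP.trans eQ.symm).bijective))⟩

theorem exists_generator [Module.Finite A P] [Module.Projective A P] [Nontrivial P] :
    ∃ (ι : Type (max u v)) (s : Finset ι) (f : ι → (P →ₗ[A] A)) (x : ι → P), ∑ i ∈ s, f i (x i) = 1 := by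
  classical
  let T : Submodule A A := ⨆ f : P →ₗ[A] A, LinearMap.range f
  have hmul : ∀ t ∈ T, ∀ a, t * a ∈ T := by
    intro t ht a
    induction ht using Submodule.iSup_induction' with
    | mem f y hy =>
      obtain ⟨z, rfl⟩ := hy
      exact Submodule.mem_iSup_of_mem ((LinearMap.toSpanSingleton A A a) ∘ₗ f) ⟨z, rfl⟩
    | zero => simp
    | add y z _ _ h1 h2 => rw [add_mul]; exact T.add_mem h1 h2
  let q := Ideal.Quotient.mk (Ring.jacobson A)
  let I : TwoSidedIdeal (A ⧸ Ring.jacobson A) := TwoSidedIdeal.mk' (q '' (T : Set A))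
    ⟨0, T.zero_mem, map_zero q⟩
    (by rintro _ _ ⟨a, ha, rfl⟩ ⟨b, hb, rfl⟩; exact ⟨a + b, T.add_mem ha hb, map_add q a b⟩)
    (by rintro _ ⟨a, ha, rfl⟩; exact ⟨-a, T.neg_mem ha, map_neg q a⟩)
    (by
      intro c _ hy
      obtain ⟨b, rfl⟩ := Ideal.Quotient.mk_surjective c
      obtain ⟨a, ha, rfl⟩ := hy
      exact ⟨b * a, T.smul_mem b ha, map_mul q b a⟩)
    (by
      intro _ c hx
      obtain ⟨b, rfl⟩ := Ideal.Quotient.mk_surjective c
      obtain ⟨a, ha, rfl⟩ := hx
      exact ⟨a * b, hmul a ha b, map_mul q a b⟩)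
  rcases eq_bot_or_eq_top I with hI | hI
  · exfalso
    have hT : T ≤ Ring.jacobson A := fun t ht => Ideal.Quotient.eq_zero_iff_mem.1 (by
      have : q t ∈ I := (TwoSidedIdeal.mem_mk' ..).2 ⟨t, ht, rfl⟩
      rwa [hI, TwoSidedIdeal.mem_bot] at this)
    obtain ⟨s, hs⟩ := Module.projective_def.1 (inferInstance : Module.Projective A P)
    refine (Submodule.jacobson_smul_lt_top (R := A) (⊤ : Submodule A P)).ne (eq_top_iff.2 fun x _ => ?_)
    rw [← hs x, Finsupp.linearCombination_apply]
    refine Submodule.sum_mem _ fun i _ => Submodule.smul_mem_smul (hT ?_) Submodule.mem_top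
    exact Submodule.mem_iSup_of_mem (Finsupp.lapply i ∘ₗ s) ⟨x, rfl⟩
  · obtain ⟨t, ht, ht1⟩ : (1 : A ⧸ Ring.jacobson A) ∈ q '' (T : Set A) := by
      have : (1 : A ⧸ Ring.jacobson A) ∈ I := by rw [hI]; trivial
      exact (TwoSidedIdeal.mem_mk' ..).1 this
    have hTtop : T = ⊤ := by
      by_contra hne
      obtain ⟨m, hm, hle⟩ := Ideal.exists_le_maximal T hne
      have hj : (1 : A) - t ∈ Ring.jacobson A := by
        rw [← Ideal.Quotient.eq_zero_iff_mem, map_sub, map_one]
        exact sub_eq_zero.2 ht1.symm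
      exact hm.ne_top (m.eq_top_iff_one.2 (by
        simpa using m.add_mem (Ring.jacobson_le_of_isMaximal m hj) (hle ht)))
    obtain ⟨c, hc⟩ := (Submodule.mem_iSup_iff_exists_finsupp _ _).1 (show (1 : A) ∈ T by rw [hTtop]; trivial)
    choose x hx using fun f => hc.1 f
    exact ⟨P →ₗ[A] A, c.support, id, x, by simpa [hx, Finsupp.sum] using hc.2⟩

theorem existsUnique_central [Module.Finite A P] [Module.Projective A P] [Nontrivial P]
    (u : P →ₗ[A] P) (hu : ∀ f : Module.End A P, u ∘ₗ f = f ∘ₗ u) :
    ∃! a : A, (∀ b : A, a * b = b * a) ∧ ∀ x : P, u x = a • x := by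
  obtain ⟨ι, s, f, x, h1⟩ := exists_generator (A := A) (P := P)
  have faith : ∀ a : A, (∀ z : P, a • z = 0) → a = 0 := fun a ha => by
    have := congrArg (a * ·) h1
    rw [Finset.mul_sum, mul_one] at this
    simp only [← smul_eq_mul, ← map_smul, ha, map_zero, Finset.sum_const_zero] at this
    exact this.symm
  have key : ∀ z, u z = (∑ i ∈ s, f i (u (x i))) • z := fun z => by
    conv_lhs => rw [← one_smul A z, ← h1, Finset.sum_smul, map_sum]
    rw [Finset.sum_smul]
    refine Finset.sum_congr rfl fun i _ => ?_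
    exact LinearMap.congr_fun (hu ((LinearMap.toSpanSingleton A P z) ∘ₗ f i)) (x i)
  refine ⟨_, ⟨fun b => sub_eq_zero.1 (faith _ fun z => ?_), key⟩, fun b hb => sub_eq_zero.1 (faith _ fun z => ?_)⟩
  · rw [sub_smul, mul_smul, mul_smul, ← key, ← key, map_smul, sub_self]
  · rw [sub_smul, ← hb.2, ← key, sub_self]

end Groth.Misc5.StrongLocal
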